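import Mathlib
import Groth.Agent.GeomRedAt.Basic
import Groth.Agent.AlgSpGeomRed.Sch
import Groth.Agent.GeomRed.Alg
import Groth.Prelude.Def_Curv2

/-!
Geometric reducedness of a scheme over a field through its points and its generic points.
-/

set_option autoImplicit false
set_option backward.isDefEq.respectTransparency false
set_option backward.isDefEq.respectTransparency.types false

universe u

open CategoryTheory CategoryTheory.Limits AlgebraicGeometry TensorProduct

namespace Groth.Agent.GeomRedGlobal

variable {k : Type u} [Field k]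

theorem geometricallyReduced_iff_forall {X : Scheme.{u}} (f : X ⟶ Spec (CommRingCat.of k)) :
    GeometricallyReduced f ↔ ∀ x, FBase.IsGeomReducedAt f x := by
  rw [geometricallyReduced_iff, geometrically_iff_of_isClosedUnderIsomorphisms]
  constructor
  · intro h x K _ _ x' _
    haveI : AlgebraicGeometry.IsReduced (FBase.bc f K) := h K (Spec.map (CommRingCat.ofHom (algebraMap k K)))
    infer_instance
  · intro h K _ y
    obtain ⟨φ, rfl⟩ := Spec.map_surjective y
    letI : Algebra k K := φ.hom.toAlgebra
    have e : φ = CommRingCat.ofHom (algebraMap k K) := rfl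
    rw [e]
    haveI : ∀ z : FBase.bc f K, _root_.IsReduced ((FBase.bc f K).presheaf.stalk z) := fun z => h _ K z rfl
    exact isReduced_of_isReduced_stalk (FBase.bc f K)

theorem forall_of_generic {X : Scheme.{u}} [AlgebraicGeometry.IsReduced X] (f : X ⟶ Spec (CommRingCat.of k))
    (h : ∀ Z ∈ irreducibleComponents (X : Type u), ∀ η : X, IsGenericPoint η Z → FBase.IsGeomReducedAt f η) (x : X) :
    FBase.IsGeomReducedAt f x := by
  obtain ⟨A, _, j, _, hj, p, rfl⟩ := GeomRedAt.exists_chart f x
  refine (GeomRedAt.isGeomReducedAt_iff f j hj p).2 ?_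
  haveI : AlgebraicGeometry.IsReduced (Spec A) := isReduced_of_isOpenImmersion j
  haveI : _root_.IsReduced A := (affine_isReduced_iff A).1 inferInstance
  let kb := AlgebraicClosure k
  have hmin : ∀ q : {q : PrimeSpectrum A // IsMin q}, _root_.IsReduced (kb ⊗[k] Localization.AtPrime q.1.asIdeal) := by
    intro q
    have hcomp : closure {j q.1} ∈ irreducibleComponents (X : Type u) := by
      refine ⟨isIrreducible_singleton.closure, fun Z hZ hle => ?_⟩
      obtain ⟨η, hη⟩ : ∃ η, IsGenericPoint η (closure Z) :=
        ⟨_, (hZ.closure.isGenericPoint_genericPoint isClosed_closure)⟩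
      have hspec : η ⤳ j q.1 := hη.specializes (subset_closure (hle (subset_closure rfl)))
      obtain ⟨q', rfl⟩ : ∃ q' : PrimeSpectrum A, j q' = η := j.isOpenEmbedding.isOpen_range.stableUnderGeneralization hspec ⟨_, rfl⟩
      have hle' : q' ≤ q.1 := (PrimeSpectrum.le_iff_specializes q' q.1).2 (j.isOpenEmbedding.isInducing.specializes_iff.1 hspec)
      have hqq : q' = q.1 := le_antisymm hle' (q.2 hle')
      rw [← hqq]
      exact subset_closure.trans hη.def.ge
    have h1 := (GeomRedAt.isGeomReducedAt_iff f j hj q.1).1 (h _ hcomp _ isGenericPoint_closure)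
    exact (Algebra.isGeometricallyReduced_field_iff k _).1 h1
  haveI := hmin
  haveI hA : _root_.IsReduced (kb ⊗[k] A) := by
    refine Groth.Agent.GeomRed.isReduced_baseChange_of_family (F := fun q : {q : PrimeSpectrum A // IsMin q} => Localization.AtPrime q.1.asIdeal)
      (fun q => IsScalarTower.toAlgHom k A (Localization.AtPrime q.1.asIdeal)) fun a ha => ?_
    apply IsNilpotent.eq_zero
    rw [nilpotent_iff_mem_prime]
    intro J hJ
    obtain ⟨q₀, hq₀, hle⟩ := Ideal.exists_minimalPrimes_le (I := ⊥) (J := J) bot_le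
    have hq₀' : q₀ ∈ minimalPrimes A := hq₀
    haveI : q₀.IsPrime := hq₀.1.1
    let q : PrimeSpectrum A := ⟨q₀, hq₀.1.1⟩
    have hqmin : IsMin q := fun b hb => hq₀.2 ⟨b.2, bot_le⟩ hb
    obtain ⟨s, hs⟩ := (IsLocalization.map_eq_zero_iff q.asIdeal.primeCompl (Localization.AtPrime q.asIdeal) a).1 (ha ⟨q, hqmin⟩)
    refine hle ?_
    exact (hq₀.1.1.mem_or_mem (show (s : A) * a ∈ q₀ by rw [hs]; exact q₀.zero_mem)).resolve_left s.2
  rw [Algebra.isGeometricallyReduced_field_iff]
  letI := (Algebra.TensorProduct.map (AlgHom.id kb kb) (IsScalarTower.toAlgHom k A (Localization.AtPrime p.asIdeal))).toRingHom.toAlgebra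
  haveI := GeomRedStrata.isLocalization_baseChange k kb p.asIdeal.primeCompl (Localization.AtPrime p.asIdeal)
  exact isReduced_localizationPreserves (p.asIdeal.primeCompl.map (Algebra.TensorProduct.includeRight (R := k) (A := kb))) _ hA

end Groth.Agent.GeomRedGlobal
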